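import Groth.Agent.GeomRedFieldLib.Avoid
import Groth.Agent.GeomRedFieldLib.Generic
import Groth.Agent.GeomRedFieldLib.CharZero
import Groth.Agent.S1535

/-!
# Generic smoothness for a regular, possibly reducible, source
-/

set_option autoImplicit false
set_option backward.isDefEq.respectTransparency false

universe u

open CategoryTheory AlgebraicGeometry

namespace KleimanLib

/-- A finite type morphism from a regular scheme to an integral scheme with perfect function field is smooth over
a nonempty open. -/
theorem exists_open_smooth_restrict {X Y : Scheme.{u}} [IsIntegral Y] [PerfectField Y.functionField]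
    (hreg : ∀ x : X, IsRegularLocalRing (X.presheaf.stalk x)) (f : X ⟶ Y) [LocallyOfFinitePresentation f]
    [QuasiCompact f] : ∃ V : Y.Opens, (V : Set Y).Nonempty ∧ Smooth (f ∣_ V) := by
  obtain ⟨V, hV, hd⟩ := GeomRedFieldLib.exists_open_disjoint f ((f.smoothLocus : Set X)ᶜ)
    f.smoothLocus.2.isClosed_compl
    (fun x hx h ↦ hx (GeomRedFieldLib.mem_smoothLocus_of_regular f x h (hreg x)))
  refine ⟨V, hV, ?_⟩
  rw [← Scheme.Hom.smoothLocus_eq_top_iff, eq_top_iff]
  rintro x -
  rw [Scheme.Hom.mem_smoothLocus]
  exact (RingHom.FormallySmooth.respectsIso.arrow_mk_iso_iff (morphismRestrictStalkMap f V x)).mpr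
    (Classical.by_contradiction fun hn ↦ hd x.1 hn x.2)

theorem regular_of_smooth {k : Type u} [Field k] {P : Scheme.{u}} (q : P ⟶ Spec (CommRingCat.of k)) [Smooth q] (x : P) :
    IsRegularLocalRing (P.presheaf.stalk x) := by
  letI : P.Over (Spec (CommRingCat.of k)) := ⟨q⟩
  haveI : Smooth (P ↘ Spec (CommRingCat.of k)) := ‹Smooth q›
  exact Groth.Agent.S1535.result k P x

end KleimanLib
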