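import Groth.Agent.KleimanLib.Bertini
import Groth.Agent.MeroLib.ZeroScheme
import Groth.Agent.TwistLib.PullGen
import Groth.Prelude.Def_FlatMod2
import Groth.Prelude.Def_Formal

/-!
# Bertini for a generated linear system
-/

set_option autoImplicit false
set_option linter.style.haveILetI false
set_option backward.isDefEq.respectTransparency false

universe u

open CategoryTheory CategoryTheory.Limits AlgebraicGeometry MvPolynomial Opposite
open AmpleLib (GenOn res)

noncomputable section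

namespace KleimanLib

variable {k : Type u} [Field k] {X : Scheme.{u}}

/-- The structure map of the sections over an open. -/
def strHom (q : X ⟶ Spec (CommRingCat.of k)) (W : X.Opens) : k →+* Γ(X, W) :=
  (Coh.resTop X (op W)).comp (Coh.toGlobal q)

theorem fromSpec_comp (q : X ⟶ Spec (CommRingCat.of k)) {W : X.Opens} (hW : IsAffineOpen W) :
    hW.fromSpec ≫ q = Spec.map (CommRingCat.ofHom (strHom q W)) := by
  have h := IsAffineOpen.SpecMap_appLE_fromSpec q (isAffineOpen_top (Spec (CommRingCat.of k))) hW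
    (by rw [Scheme.Hom.preimage_top]; exact le_top)
  rw [← h, IsAffineOpen.fromSpec_top, Scheme.isoSpec_Spec_inv, ← Spec.map_comp]
  rfl

variable [X.Over (Spec (CommRingCat.of k))] {L : X.Modules}

theorem secVal_smulMod_comp (c : k) (s : Coh.structureModule X ⟶ L) (W : X.Opens) :
    PicF2.secVal L (Formal.smulMod k (Coh.structureModule X) c ≫ s) W =
      strHom (X ↘ Spec (CommRingCat.of k)) W c • MeroLib.secOn s W := by
  show (s.val.app (op W)).hom
    (Coh.resTop X (op W) (Coh.toGlobal (X ↘ Spec (CommRingCat.of k)) c) • (1 : X.ringCatSheaf.obj.obj (op W))) = _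
  exact (s.val.app (op W)).hom.map_smul _ _

theorem secVal_sum {ι : Type} [Fintype ι] (φ : ι → (Coh.structureModule X ⟶ L)) (W : X.Opens) :
    PicF2.secVal L (∑ i, φ i) W = ∑ i, PicF2.secVal L (φ i) W := by
  let T : (Coh.structureModule X ⟶ L) →+ L.val.obj (op W) :=
    { toFun := fun ψ ↦ PicF2.secVal L ψ W
      map_zero' := rfl
      map_add' := fun _ _ ↦ rfl }
  exact map_sum T φ Finset.univ

theorem invertible_of_rank_one {Y : Scheme.{u}} {M : Y.Modules} (h : FlatMod.IsFinLocFreeOfRank 1 M) :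
    PicF.IsInvertible M := fun y ↦ by
  obtain ⟨U, hy, ⟨a⟩⟩ := h y
  exact ⟨U, hy, ⟨a ≪≫ coproductUniqueIso fun _ : Fin 1 ↦ Coh.structureModule (↑U)⟩⟩

theorem bertini [CharZero k] [Smooth (X ↘ Spec (CommRingCat.of k))] [QuasiCompact (X ↘ Spec (CommRingCat.of k))]
    (hL : PicF.IsInvertible L) (m : ℕ) (s : Fin (m + 1) → (Coh.structureModule X ⟶ L))
    (hgen : ⨆ i, PicF2.zeroScheme L (s i) = ⊤) :
    ∃ p : MvPolynomial (Fin (m + 1)) k, p ≠ 0 ∧ ∀ c : Fin (m + 1) → k, MvPolynomial.eval c p ≠ 0 →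
      Smooth ((PicF2.zeroScheme L (∑ i, Formal.smulMod k (Coh.structureModule X) (c i) ≫ s i)).subschemeι ≫
        (X ↘ Spec (CommRingCat.of k))) := by
  classical
  let q : X ⟶ Spec (CommRingCat.of k) := X ↘ Spec (CommRingCat.of k)
  haveI : CompactSpace X := QuasiCompact.compactSpace_of_compactSpace q
  have hcov : ∀ x : X, ∃ (W : X.affineOpens) (g : Γ(L, W.1)), x ∈ W.1 ∧ GenOn L g := by
    intro x
    obtain ⟨U, e, hx, he⟩ := TwistLib.exists_genOn hL x
    obtain ⟨W, hW, hxW, hWU⟩ := exists_isAffineOpen_mem_and_subset hx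
    exact ⟨⟨W, hW⟩, res L hWU e, hxW, he.res hWU⟩
  choose W g hxW hg using hcov
  obtain ⟨t, ht⟩ := isCompact_univ.elim_finite_subcover (fun x : X ↦ ((W x).1 : Set X)) (fun x ↦ (W x).1.2)
    (fun x _ ↦ Set.mem_iUnion_of_mem x (hxW x))
  have ha : ∀ x, ∃ a : Fin (m + 1) → Γ(X, (W x).1), ∀ i, a i • g x = MeroLib.secOn (s i) (W x).1 := by
    intro x
    choose a ha using fun i ↦ (hg x (W x).1 le_rfl).2 (MeroLib.secOn (s i) (W x).1)
    refine ⟨a, fun i ↦ ?_⟩
    have := ha i
    simpa only [AmpleLib.res_refl] using this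
  choose a ha using ha
  have key : ∀ x, ∃ p : MvPolynomial (Fin (m + 1)) k, p ≠ 0 ∧ ∀ c : Fin (m + 1) → k, MvPolynomial.eval c p ≠ 0 →
      ((Ideal.Quotient.mk (Ideal.span {∑ i, strHom q (W x).1 (c i) * a x i})).comp (strHom q (W x).1)).Smooth := by
    intro x
    letI : Algebra k Γ(X, (W x).1) := (strHom q (W x).1).toAlgebra
    have hs : (strHom q (W x).1).Smooth := by
      rw [← CommRingCat.hom_ofHom (strHom q (W x).1), ← HasRingHomProperty.Spec_iff (P := @Smooth),
        ← fromSpec_comp q (W x).2]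
      infer_instance
    haveI : Algebra.Smooth k Γ(X, (W x).1) := hs
    have hspan : Ideal.span (Set.range (a x)) = ⊤ := by
      have h := congrArg (fun I : X.IdealSheafData ↦ I.ideal (W x)) hgen
      simp only [Scheme.IdealSheafData.ideal_iSup, iSup_apply, Scheme.IdealSheafData.ideal_top, Pi.top_apply] at h
      rw [← h, Ideal.span, Submodule.span_range_eq_iSup]
      exact iSup_congr fun i ↦ (MeroLib.zeroScheme_ideal_of_genOn hL (s i) (hg x) (ha x i)).symm
    obtain ⟨p, hp0, hp⟩ := exists_ne_zero_forall_smooth (k := k) (a x) hspan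
    exact ⟨p, hp0, fun c hc ↦ RingHom.smooth_algebraMap.mpr (hp c hc)⟩
  choose p hp0 hp using key
  refine ⟨∏ x ∈ t, p x, Finset.prod_ne_zero_iff.mpr fun x _ ↦ hp0 x, fun c hc ↦ ?_⟩
  rw [map_prod] at hc
  let I := PicF2.zeroScheme L (∑ i, Formal.smulMod k (Coh.structureModule X) (c i) ≫ s i)
  have hI : ∀ x, I.ideal (W x) = Ideal.span {∑ i, strHom q (W x).1 (c i) * a x i} := by
    intro x
    refine MeroLib.zeroScheme_ideal_of_genOn hL _ (hg x) ?_
    show _ = PicF2.secVal L _ _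
    rw [secVal_sum, Finset.sum_smul]
    refine Finset.sum_congr rfl fun i _ ↦ ?_
    rw [secVal_smulMod_comp, ← ha, mul_smul]
  have hU : TopologicalSpace.IsOpenCover fun x : ↥t ↦ I.subschemeι ⁻¹ᵁ (W x.1).1 := by
    refine top_le_iff.mp fun z _ ↦ ?_
    obtain ⟨x, hxt, hx⟩ := Set.mem_iUnion₂.mp (ht (Set.mem_univ (I.subschemeι z)))
    exact TopologicalSpace.Opens.mem_iSup.mpr ⟨⟨x, hxt⟩, hx⟩
  refine (IsZariskiLocalAtSource.iff_of_openCover (P := @Smooth) (I.subscheme.openCoverOfIsOpenCover _ hU)).mpr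
    fun x ↦ ?_
  show Smooth ((I.subschemeι ⁻¹ᵁ (W x.1).1).ι ≫ I.subschemeι ≫ q)
  let e := IsOpenImmersion.isoOfRangeEq (I.subschemeι ⁻¹ᵁ (W x.1).1).ι (I.subschemeCover.f (W x.1))
    (by
      rw [Scheme.Opens.range_ι, ← Scheme.Hom.coe_opensRange, I.opensRange_subschemeCover_map])
  rw [← IsOpenImmersion.isoOfRangeEq_hom_fac (I.subschemeι ⁻¹ᵁ (W x.1).1).ι (I.subschemeCover.f (W x.1)) (by
      rw [Scheme.Opens.range_ι, ← Scheme.Hom.coe_opensRange, I.opensRange_subschemeCover_map]), Category.assoc]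
  refine (MorphismProperty.cancel_left_of_respectsIso @Smooth _ _).mpr ?_
  rw [← Category.assoc, I.subschemeCover_map_subschemeι, Scheme.IdealSheafData.glueDataObjι, Category.assoc,
    Category.assoc, ← Category.assoc (W x.1).2.isoSpec.inv, (W x.1).2.isoSpec_inv_ι, fromSpec_comp, ← Spec.map_comp,
    HasRingHomProperty.Spec_iff (P := @Smooth)]
  show ((Ideal.Quotient.mk (I.ideal (W x.1))).comp (strHom q (W x.1).1)).Smooth
  rw [hI]
  exact hp x.1 c (fun h ↦ hc (Finset.prod_eq_zero x.2 h))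

end KleimanLib
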