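import Groth.Agent.KleimanLib.GenSmooth
import Groth.Agent.UOpenLib.Criterion
import Mathlib.RingTheory.Smooth.Basic
import Mathlib.RingTheory.RingHom.Smooth

/-!
# Bertini: a general combination of generators of the unit ideal has smooth zero locus
-/

set_option autoImplicit false
set_option linter.style.haveILetI false
set_option backward.isDefEq.respectTransparency false

universe u

open CategoryTheory CategoryTheory.Limits AlgebraicGeometry MvPolynomial

noncomputable section

namespace KleimanLib

variable {k A : Type u} [Field k] [CommRing A] [Algebra k A] {m : ℕ} (a : Fin (m + 1) → A)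

/-- The universal linear form. -/
def univForm : MvPolynomial (Fin (m + 1)) A := ∑ i, C (a i) * X i

/-- The universal member of the linear system. -/
abbrev Univ : Type u := MvPolynomial (Fin (m + 1)) A ⧸ Ideal.span {univForm a}

theorem formallySmooth_univ (ha : Ideal.span (Set.range a) = ⊤) : Algebra.FormallySmooth A (Univ a) := by
  obtain ⟨b, hb⟩ := Ideal.mem_span_range_iff_exists_fun.mp (ha ▸ Submodule.mem_top : (1 : A) ∈ Ideal.span (Set.range a))
  refine Algebra.FormallySmooth.of_comp_surjective fun B _ _ I hI φ ↦ ?_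
  let π : MvPolynomial (Fin (m + 1)) A →ₐ[A] Univ a := Ideal.Quotient.mkₐ A _
  choose t ht using fun i ↦ Ideal.Quotient.mkₐ_surjective A I (φ (π (X i)))
  let e : B := ∑ i, algebraMap A B (a i) * t i
  have hπ : π (univForm a) = 0 := Ideal.Quotient.eq_zero_iff_mem.mpr (Ideal.mem_span_singleton_self _)
  have he : e ∈ I := by
    have h : Ideal.Quotient.mkₐ A I e = 0 := by
      rw [show (0 : B ⧸ I) = φ (π (univForm a)) by rw [hπ, map_zero]]
      simp only [e, univForm, map_sum, map_mul, ht, ← MvPolynomial.algebraMap_eq, AlgHom.commutes]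
    exact Ideal.Quotient.eq_zero_iff_mem.mp h
  let t' : Fin (m + 1) → B := fun i ↦ t i - e * algebraMap A B (b i)
  have h0 : MvPolynomial.aeval t' (univForm a) = 0 := by
    simp only [univForm, map_sum, map_mul, aeval_C, aeval_X, t', mul_sub, Finset.sum_sub_distrib]
    rw [sub_eq_zero]
    calc _ = e * algebraMap A B (∑ i, b i * a i) := by rw [hb, map_one, mul_one]
      _ = _ := by
        rw [map_sum, Finset.mul_sum]
        refine Finset.sum_congr rfl fun i _ ↦ ?_
        rw [map_mul]
        ring
  refine ⟨Ideal.Quotient.liftₐ _ (MvPolynomial.aeval t') (fun x hx ↦ ?_), ?_⟩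
  · obtain ⟨y, rfl⟩ := Ideal.mem_span_singleton'.mp hx
    rw [map_mul, h0, mul_zero]
  · refine Ideal.Quotient.algHom_ext _ (MvPolynomial.algHom_ext fun i ↦ ?_)
    show Ideal.Quotient.mkₐ A I (MvPolynomial.aeval t' (X i)) = φ (π (X i))
    rw [aeval_X, map_sub, ht, sub_eq_self]
    exact Ideal.Quotient.eq_zero_iff_mem.mpr (I.mul_mem_right _ he)

theorem smooth_univ [Algebra.Smooth k A] (ha : Ideal.span (Set.range a) = ⊤) : Algebra.Smooth k (Univ a) := by
  haveI := formallySmooth_univ a ha
  haveI : Algebra.FinitePresentation A (Univ a) :=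
    Algebra.FinitePresentation.quotient ⟨{univForm a}, by rw [Finset.coe_singleton]⟩
  haveI : Algebra.Smooth A (Univ a) := ⟨inferInstance, inferInstance⟩
  exact Algebra.Smooth.comp k A (Univ a)

/-- The parameter map of the universal member. -/
def paramHom : MvPolynomial (Fin (m + 1)) k →+* Univ a :=
  (Ideal.Quotient.mk (Ideal.span {univForm a})).comp (MvPolynomial.map (algebraMap k A))

theorem exists_ne_zero_smooth_away [CharZero k] [Algebra.Smooth k A] (ha : Ideal.span (Set.range a) = ⊤) :
    ∃ p : MvPolynomial (Fin (m + 1)) k, p ≠ 0 ∧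
      ((algebraMap (Univ a) (Localization.Away (paramHom (k := k) a p))).comp (paramHom (k := k) a)).Smooth := by
  haveI := smooth_univ (k := k) a ha
  let R := MvPolynomial (Fin (m + 1)) k
  let f : Spec (CommRingCat.of (Univ a)) ⟶ Spec (CommRingCat.of R) := Spec.map (CommRingCat.ofHom (paramHom (k := k) a))
  let q : Spec (CommRingCat.of R) ⟶ Spec (CommRingCat.of k) := Spec.map (CommRingCat.ofHom (algebraMap k R))
  have hfq : f ≫ q = Spec.map (CommRingCat.ofHom (algebraMap k (Univ a))) := by
    rw [← Spec.map_comp, ← CommRingCat.ofHom_comp]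
    congr 2
    ext x
    show Ideal.Quotient.mk _ (MvPolynomial.map (algebraMap k A) (C x)) = _
    rw [map_C]
    rfl
  haveI : Smooth (f ≫ q) := by
    rw [hfq, HasRingHomProperty.Spec_iff (P := @Smooth)]
    exact RingHom.smooth_algebraMap.mpr inferInstance
  haveI : LocallyOfFiniteType q := by
    rw [HasRingHomProperty.Spec_iff (P := @LocallyOfFiniteType)]
    exact RingHom.finiteType_algebraMap.mpr inferInstance
  haveI : LocallyOfFiniteType f := locallyOfFiniteType_of_comp f q
  haveI : LocallyOfFinitePresentation f := by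
    haveI : IsLocallyNoetherian (Spec (CommRingCat.of R)) := inferInstance
    exact UOpenLib.locallyOfFinitePresentation_of_isLocallyNoetherian _
  haveI : IsIntegral (Spec (CommRingCat.of R)) := inferInstance
  haveI := GeomRedFieldLib.perfectField_functionField_of_charZero q
  obtain ⟨V, ⟨v, hv⟩, hs⟩ := exists_open_smooth_restrict (regular_of_smooth (f ≫ q)) f
  obtain ⟨_, ⟨p, rfl⟩, hvp, hpV⟩ := PrimeSpectrum.isTopologicalBasis_basic_opens.exists_subset_of_mem_open hv V.2
  refine ⟨p, fun h0 ↦ ?_, ?_⟩
  · subst h0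
    exact hvp (Ideal.zero_mem _)
  have key : Smooth (Spec.map (CommRingCat.ofHom
      (algebraMap (Univ a) (Localization.Away (paramHom (k := k) a p)))) ≫ f) := by
    let j := Spec.map (CommRingCat.ofHom (algebraMap (Univ a) (Localization.Away (paramHom (k := k) a p))))
    haveI : IsOpenImmersion j := IsOpenImmersion.of_isLocalization (paramHom (k := k) a p)
    have hr : Set.range j.base ⊆ Set.range (f ⁻¹ᵁ V).ι.base := by
      rw [Scheme.Opens.range_ι]
      rintro _ ⟨y, rfl⟩
      refine hpV (fun hmem ↦ ?_)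
      exact y.isPrime.ne_top (Ideal.eq_top_of_isUnit_mem _ hmem
        (IsLocalization.Away.algebraMap_isUnit (paramHom (k := k) a p)))
    haveI := hs
    show Smooth (j ≫ f)
    rw [← IsOpenImmersion.lift_fac _ j hr, Category.assoc, ← morphismRestrict_ι, ← Category.assoc]
    infer_instance
  rwa [← Spec.map_comp, HasRingHomProperty.Spec_iff (P := @Smooth)] at key

set_option maxHeartbeats 800000 in
/-- The member of the linear system at the parameter `c`. -/
theorem exists_ne_zero_forall_smooth [CharZero k] [Algebra.Smooth k A] (ha : Ideal.span (Set.range a) = ⊤) :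
    ∃ p : MvPolynomial (Fin (m + 1)) k, p ≠ 0 ∧ ∀ c : Fin (m + 1) → k, MvPolynomial.eval c p ≠ 0 →
      Algebra.Smooth k (A ⧸ Ideal.span {∑ i, c i • a i}) := by
  obtain ⟨p, hp0, hp⟩ := exists_ne_zero_smooth_away (k := k) a ha
  refine ⟨p, hp0, fun c hc ↦ ?_⟩
  haveI : Algebra.FiniteType k (A ⧸ Ideal.span {∑ i, c i • a i}) :=
    Algebra.FiniteType.of_surjective (Ideal.Quotient.mkₐ k _) (Ideal.Quotient.mkₐ_surjective _ _)
  refine ⟨Algebra.FormallySmooth.of_comp_surjective fun B _ _ I hI φ ↦ ?_,
    Algebra.FinitePresentation.of_finiteType.mp inferInstance⟩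
  let R := MvPolynomial (Fin (m + 1)) k
  let L := Localization.Away (paramHom (k := k) a p)
  letI : Algebra R L := ((algebraMap (Univ a) L).comp (paramHom (k := k) a)).toAlgebra
  haveI hfs : Algebra.FormallySmooth R L := (hp : Algebra.Smooth R L).formallySmooth
  letI : Algebra R B := (MvPolynomial.eval₂Hom (algebraMap k B) (fun i ↦ algebraMap k B (c i))).toAlgebra
  haveI : IsScalarTower R B (B ⧸ I) := inferInstance
  let πc := Ideal.Quotient.mkₐ k (Ideal.span {∑ i, c i • a i})
  let ev : Univ a →+* A ⧸ Ideal.span {∑ i, c i • a i} :=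
    Ideal.Quotient.lift _ (πc.toRingHom.comp (MvPolynomial.eval₂Hom (RingHom.id A) (fun i ↦ algebraMap k A (c i))))
      (fun x hx ↦ by
        obtain ⟨y, rfl⟩ := Ideal.mem_span_singleton'.mp hx
        rw [map_mul]
        refine mul_eq_zero_of_right _ (Ideal.Quotient.eq_zero_iff_mem.mpr ?_)
        have e1 : MvPolynomial.eval₂Hom (RingHom.id A) (fun i ↦ algebraMap k A (c i)) (univForm a) =
            ∑ i, c i • a i := by
          simp only [univForm, map_sum, map_mul, eval₂Hom_C, eval₂Hom_X', RingHom.id_apply, Algebra.smul_def]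
          exact Finset.sum_congr rfl fun i _ ↦ mul_comm _ _
        rw [e1]
        exact Ideal.mem_span_singleton_self _)
  let g₀ : Univ a →+* B ⧸ I := φ.toRingHom.comp ev
  have hg₀ : g₀.comp (paramHom (k := k) a) = algebraMap R (B ⧸ I) := by
    refine MvPolynomial.ringHom_ext (fun x ↦ ?_) (fun i ↦ ?_)
    · show φ (πc (MvPolynomial.eval₂Hom _ _ (MvPolynomial.map _ (C x)))) = Ideal.Quotient.mk I
        (MvPolynomial.eval₂Hom _ _ (C x))
      rw [map_C, eval₂Hom_C, eval₂Hom_C, RingHom.id_apply, AlgHom.commutes, AlgHom.commutes]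
      rfl
    · show φ (πc (MvPolynomial.eval₂Hom _ _ (MvPolynomial.map _ (X i)))) = Ideal.Quotient.mk I
        (MvPolynomial.eval₂Hom _ _ (X i))
      rw [map_X, eval₂Hom_X', eval₂Hom_X', AlgHom.commutes, AlgHom.commutes]
      rfl
  have hu : IsUnit (g₀ (paramHom (k := k) a p)) := by
    rw [show g₀ (paramHom a p) = algebraMap R (B ⧸ I) p from RingHom.congr_fun hg₀ p]
    have e2 : algebraMap R B p = algebraMap k B (MvPolynomial.eval c p) := by
      show MvPolynomial.eval₂Hom _ _ p = _
      rw [MvPolynomial.eval, coe_eval₂Hom, coe_eval₂Hom, MvPolynomial.eval₂_comp_left, RingHom.comp_id]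
      rfl
    rw [IsScalarTower.algebraMap_apply R B (B ⧸ I), e2]
    exact ((IsUnit.mk0 _ hc).map _).map _
  let g : L →ₐ[R] B ⧸ I :=
    { IsLocalization.Away.lift (paramHom (k := k) a p) hu with
      commutes' := fun r ↦
        (IsLocalization.Away.lift_eq (S := L) (paramHom (k := k) a p) hu (paramHom (k := k) a r)).trans
          (RingHom.congr_fun hg₀ r) }
  obtain ⟨ψ, hψ⟩ := @Algebra.FormallySmooth.comp_surjective R L _ _ _ B _ _ hfs I hI g
  let ψA : A →ₐ[k] B :=
    { ψ.toRingHom.comp ((algebraMap (Univ a) L).comp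
        ((Ideal.Quotient.mk _).comp (MvPolynomial.C (R := A) (σ := Fin (m + 1))))) with
      commutes' := fun x ↦ by
        show ψ (algebraMap (Univ a) L (Ideal.Quotient.mk _ (C (algebraMap k A x)))) = _
        rw [show (C (algebraMap k A x) : MvPolynomial (Fin (m + 1)) A) = MvPolynomial.map (algebraMap k A) (C x) from
          (map_C _ _).symm]
        refine (ψ.commutes (C x : R)).trans ?_
        show MvPolynomial.eval₂Hom _ _ (C x) = _
        rw [eval₂Hom_C] }
  have hX : ∀ i, ψ (algebraMap (Univ a) L (Ideal.Quotient.mk _ (X i))) = algebraMap k B (c i) := fun i ↦ by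
    rw [show (X i : MvPolynomial (Fin (m + 1)) A) = MvPolynomial.map (algebraMap k A) (X i) from (map_X _ _).symm]
    refine (ψ.commutes (X i : R)).trans ?_
    show MvPolynomial.eval₂Hom _ _ (X i) = _
    rw [eval₂Hom_X']
  have hz : ψA (∑ i, c i • a i) = 0 := by
    have h1 : ψ (algebraMap (Univ a) L (Ideal.Quotient.mk _ (univForm a))) = 0 := by
      rw [Ideal.Quotient.eq_zero_iff_mem.mpr (Ideal.mem_span_singleton_self (univForm a)), map_zero, map_zero]
    rw [← h1]
    let Φ : MvPolynomial (Fin (m + 1)) A →+* B :=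
      ψ.toRingHom.comp ((algebraMap (Univ a) L).comp (Ideal.Quotient.mk (Ideal.span {univForm a})))
    show _ = Φ (univForm a)
    rw [univForm, map_sum Φ, map_sum ψA]
    refine Finset.sum_congr rfl fun i _ ↦ ?_
    rw [map_mul Φ, Algebra.smul_def, map_mul ψA, AlgHom.commutes, show Φ (X i) = _ from hX i, mul_comm]
    rfl
  refine ⟨Ideal.Quotient.liftₐ _ ψA (fun x hx ↦ ?_), ?_⟩
  · obtain ⟨y, rfl⟩ := Ideal.mem_span_singleton'.mp hx
    rw [map_mul, hz, mul_zero]
  · refine Ideal.Quotient.algHom_ext _ (AlgHom.ext fun x ↦ ?_)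
    show Ideal.Quotient.mkₐ k I (ψA x) = φ (πc x)
    refine (AlgHom.congr_fun hψ (algebraMap (Univ a) L (Ideal.Quotient.mk _ (C x)))).trans ?_
    show IsLocalization.Away.lift _ hu (algebraMap (Univ a) L _) = _
    rw [IsLocalization.Away.lift_eq]
    show φ (πc (MvPolynomial.eval₂Hom _ _ (C x))) = _
    rw [eval₂Hom_C]
    rfl

end KleimanLib
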