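import Groth.Agent.KleimanLib.Homog
import Groth.Agent.FibDimLib.Pure
import Groth.Agent.FibDimLib.TopLocalDim
import Groth.Agent.OrbitLib.Dim

/-!
# Kleiman transversality
-/

set_option autoImplicit false
set_option linter.style.haveILetI false
set_option backward.isDefEq.respectTransparency false

universe u

open CategoryTheory CategoryTheory.Limits MonoidalCategory CartesianMonoidalCategory AlgebraicGeometry
open scoped MonObj

noncomputable section

namespace KleimanLib

variable {k : Type u} [Field k]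

/-- On an irreducible variety the fibre dimension over the base field is the dimension. -/
theorem fibreDimAt_variety {F : Scheme.{u}} [IrreducibleSpace F] (q : F ⟶ Spec (CommRingCat.of k))
    [LocallyOfFiniteType q] {e : ℕ} (he : topologicalKrullDim F = e) (x : F) :
    FlatMor.fibreDimAt q x = e := by
  rw [AlgSpLib.fibreDimAt_eq_localDim]
  refine FibDimLib.IsPureDim.localDim_eq q (fun Z hZ ↦ ?_) x
  rw [irreducibleComponents_eq_singleton, Set.mem_singleton_iff] at hZ
  subst hZ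
  exact ((Homeomorph.Set.univ F).isHomeomorph.topologicalKrullDim_eq _).trans he

theorem exists_dim_eq_nat {F : Scheme.{u}} [IrreducibleSpace F] (q : F ⟶ Spec (CommRingCat.of k))
    [LocallyOfFiniteType q] [QuasiCompact q] : ∃ e : ℕ, topologicalKrullDim F = e := by
  haveI : Nonempty (Over.mk q).left := inferInstanceAs (Nonempty F)
  haveI : LocallyOfFiniteType (Over.mk q).hom := ‹LocallyOfFiniteType q›
  haveI : QuasiCompact (Over.mk q).hom := ‹QuasiCompact q›
  haveI : CompactSpace (Over.mk q).left := QuasiCompact.compactSpace_of_compactSpace q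
  exact OrbitLib.exists_dim_eq_nat (F := Over.mk q)

/-- Additivity of the dimensions around the universal square. -/
theorem fibreDim_count {W GY X Y Z G : Scheme.{u}} {πX : X ⟶ Spec (CommRingCat.of k)}
    {πY : Y ⟶ Spec (CommRingCat.of k)} {πZ : Z ⟶ Spec (CommRingCat.of k)} {πG : G ⟶ Spec (CommRingCat.of k)}
    [IrreducibleSpace X] [IrreducibleSpace Y] [IrreducibleSpace Z] [IrreducibleSpace G]
    [LocallyOfFiniteType πX] [LocallyOfFiniteType πY] [LocallyOfFiniteType πZ] [LocallyOfFiniteType πG]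
    [Smooth πG]
    {h : GY ⟶ X} [Smooth h] {g : Z ⟶ X} (hg : g ≫ πX = πZ)
    {p₁ : GY ⟶ G} {p₂ : GY ⟶ Y} (hp : IsPullback p₁ p₂ πG πY) (hh : h ≫ πX = p₂ ≫ πY)
    {wl : W ⟶ GY} {wr : W ⟶ Z} (hw : IsPullback wl wr h g)
    (n r s e : ℕ) (hn : topologicalKrullDim X = n) (hr : topologicalKrullDim Y = r)
    (hs : topologicalKrullDim Z = s) (he : topologicalKrullDim G = e)
    (V : G.Opens) [Smooth ((wl ≫ p₁) ∣_ V)] (w : ↥((wl ≫ p₁) ⁻¹ᵁ V)) :
    ∃ b : ℕ, FlatMor.fibreDimAt ((wl ≫ p₁) ∣_ V) w = b ∧ b + n = r + s := by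
  haveI : Smooth p₂ := MorphismProperty.of_isPullback (P := @Smooth) hp ‹_›
  haveI : Smooth wr := MorphismProperty.of_isPullback (P := @Smooth) hw ‹_›
  let w' : W := ((wl ≫ p₁) ⁻¹ᵁ V).ι w
  obtain ⟨a, ha⟩ := UOpenLib.exists_fibreDimAt_eq_nat h (wl w')
  obtain ⟨b, hb⟩ := UOpenLib.exists_fibreDimAt_eq_nat ((wl ≫ p₁) ∣_ V) w
  refine ⟨b, hb, ?_⟩
  have h1 : FlatMor.fibreDimAt (h ≫ πX) (wl w') = (a : WithBot ℕ∞) + n := by
    rw [FibDimLib.fibreDimAt_comp_of_flat, ha, fibreDimAt_variety πX hn]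
  have h2 : FlatMor.fibreDimAt (p₂ ≫ πY) (wl w') = (e : WithBot ℕ∞) + r := by
    rw [FibDimLib.fibreDimAt_comp_of_flat, FibDimLib.fibreDimAt_baseChange hp, fibreDimAt_variety πG he,
      fibreDimAt_variety πY hr]
  have h3 : FlatMor.fibreDimAt (wr ≫ πZ) w' = (a : WithBot ℕ∞) + s := by
    rw [FibDimLib.fibreDimAt_comp_of_flat, FibDimLib.fibreDimAt_baseChange hw, ha, fibreDimAt_variety πZ hs]
  have e1 : ((wl ≫ p₁) ∣_ V) ≫ (V.ι ≫ πG) = ((wl ≫ p₁) ⁻¹ᵁ V).ι ≫ (wr ≫ πZ) := by
    rw [← Category.assoc, morphismRestrict_ι, Category.assoc, Category.assoc, hp.w, ← hh, hw.w_assoc, hg]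
  have h4 : FlatMor.fibreDimAt (wr ≫ πZ) w' = (b : WithBot ℕ∞) + e := by
    rw [← FibDimLib.fibreDimAt_comp_isOpenImmersion, ← e1, FibDimLib.fibreDimAt_comp_of_flat, hb,
      FibDimLib.fibreDimAt_comp_isOpenImmersion, fibreDimAt_variety πG he]
  rw [hh, h2] at h1
  rw [h3] at h4
  have n1 : e + r = a + n := by exact_mod_cast h1
  have n2 : a + s = b + e := by exact_mod_cast h4
  omega

theorem transversality [IsAlgClosed k] [CharZero k] (G X : Over (Spec (CommRingCat.of k))) [GrpObj G]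
    (a : AlgGrp.Action G X)
    [IsIntegral G.left] [LocallyOfFiniteType G.hom] [QuasiCompact G.hom]
    [IsIntegral X.left] [IsSeparated X.hom] [LocallyOfFiniteType X.hom] [QuasiCompact X.hom]
    (htrans : ∀ x x' : 𝟙_ (Over (Spec (CommRingCat.of k))) ⟶ X,
      ∃ σ : 𝟙_ (Over (Spec (CommRingCat.of k))) ⟶ G, lift σ x ≫ a.act = x')
    (Y Z : Over (Spec (CommRingCat.of k))) (f : Y ⟶ X) (g : Z ⟶ X)
    [IsIntegral Y.left] [QuasiCompact Y.hom] [Smooth Y.hom]
    [IsIntegral Z.left] [QuasiCompact Z.hom] [Smooth Z.hom]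
    (n r s : ℕ) (hn : topologicalKrullDim X.left = n) (hr : topologicalKrullDim Y.left = r)
    (hs : topologicalKrullDim Z.left = s) :
    ∃ V : G.left.Opens, (V : Set G.left).Nonempty ∧
      ∀ σ : 𝟙_ (Over (Spec (CommRingCat.of k))) ⟶ G, Set.range σ.left.base ⊆ (V : Set G.left) →
        ∀ fσ : Y.left ⟶ X.left, fσ = (lift (toUnit Y ≫ σ) f ≫ a.act).left →
          Smooth (pullback.fst fσ g.left ≫ Y.hom) ∧
            (IsEmpty ↥(pullback fσ g.left) ∨
              (n ≤ r + s ∧ topologicalKrullDim ↥(pullback fσ g.left) = ((r + s - n : ℕ) : WithBot ℕ∞))) := by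
  haveI : Smooth G.hom := Groth.Agent.GrpSchLib.smooth_of_charZero (K := k) (G := G)
  haveI : IsLocallyNoetherian G.left := LocallyOfFiniteType.isLocallyNoetherian G.hom
  haveI : CompactSpace G.left := QuasiCompact.compactSpace_of_compactSpace G.hom
  haveI : QuasiSeparatedSpace G.left := inferInstance
  haveI : CompactSpace Z.left := QuasiCompact.compactSpace_of_compactSpace Z.hom
  obtain ⟨e, he⟩ := exists_dim_eq_nat G.hom
  haveI := smooth_fam a htrans f
  let h := (fam a f).left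
  let W := pullback h g.left
  let wl : W ⟶ (G ⊗ Y).left := pullback.fst h g.left
  let wr : W ⟶ Z.left := pullback.snd h g.left
  let p₁ : (G ⊗ Y).left ⟶ G.left := (fst G Y).left
  let p₂ : (G ⊗ Y).left ⟶ Y.left := (snd G Y).left
  have hp : IsPullback p₁ p₂ G.hom Y.hom := by
    show IsPullback (fst G Y).left (snd G Y).left G.hom Y.hom
    rw [Over.fst_left, Over.snd_left]
    exact IsPullback.of_hasPullback _ _
  have hh : h ≫ X.hom = p₂ ≫ Y.hom := (Over.w (fam a f)).trans (Over.w (snd G Y)).symm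
  have hw : IsPullback wl wr h g.left := IsPullback.of_hasPullback _ _
  haveI : Smooth wr := MorphismProperty.of_isPullback (P := @Smooth) hw ‹_›
  haveI : Smooth (wr ≫ Z.hom) := inferInstance
  haveI : LocallyOfFiniteType ((wl ≫ p₁) ≫ G.hom) := by
    rw [Category.assoc, hp.w, ← hh, hw.w_assoc, Over.w g]
    infer_instance
  haveI : LocallyOfFiniteType (wl ≫ p₁) := locallyOfFiniteType_of_comp _ G.hom
  haveI : LocallyOfFinitePresentation (wl ≫ p₁) := UOpenLib.locallyOfFinitePresentation_of_isLocallyNoetherian _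
  haveI : QuasiCompact ((wl ≫ p₁) ≫ G.hom) := by
    have hqc : QuasiCompact wr := by
      haveI : CompactSpace (G ⊗ Y).left := by
        haveI : QuasiCompact (G ⊗ Y).hom := by
          rw [Over.tensorObj_hom]
          infer_instance
        exact QuasiCompact.compactSpace_of_compactSpace (G ⊗ Y).hom
      haveI : IsLocallyNoetherian X.left := LocallyOfFiniteType.isLocallyNoetherian X.hom
      haveI : QuasiCompact h := quasiCompact_of_compactSpace _
      exact MorphismProperty.of_isPullback (P := @QuasiCompact) hw ‹_›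
    rw [Category.assoc, hp.w, ← hh, hw.w_assoc, Over.w g]
    infer_instance
  haveI : QuasiCompact (wl ≫ p₁) := QuasiCompact.of_comp (wl ≫ p₁) G.hom
  haveI := OrbitLib.perfectField_functionField G.hom
  obtain ⟨V, hV, hsm⟩ := exists_open_smooth_restrict (regular_of_smooth (wr ≫ Z.hom)) (wl ≫ p₁)
  refine ⟨V, hV, fun σ hσ fσ hfσ ↦ ?_⟩
  haveI := hsm
  let j : Y ⟶ G ⊗ Y := lift (toUnit Y ≫ σ) (𝟙 Y)
  have hjf : j ≫ fam a f = lift (toUnit Y ≫ σ) f ≫ a.act := by
    simp only [j, fam, lift_whiskerLeft_assoc, Category.id_comp]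
  have hjp₁ : j.left ≫ p₁ = Y.hom ≫ σ.left := by
    show (j ≫ fst G Y).left = _
    rw [lift_fst, Over.comp_left, Over.toUnit_left]
  have hjp₂ : j.left ≫ p₂ = 𝟙 _ := by
    show (j ≫ snd G Y).left = _
    rw [lift_snd, Over.id_left]
  have hσhom : σ.left ≫ G.hom = 𝟙 _ := Over.w σ
  have sq1 : IsPullback j.left Y.hom p₁ σ.left := by
    refine IsPullback.of_right ?_ hjp₁ hp.flip
    rw [hjp₂, hσhom]
    exact IsPullback.id_horiz Y.hom
  have sq2 : IsPullback (pullback.fst fσ g.left) (pullback.snd fσ g.left) (j.left ≫ h) g.left := by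
    rw [← Over.comp_left, hjf, ← hfσ]
    exact IsPullback.of_hasPullback _ _
  let iF : pullback fσ g.left ⟶ W := hw.lift (pullback.fst fσ g.left ≫ j.left) (pullback.snd fσ g.left)
    (by rw [Category.assoc]; exact sq2.w)
  have sq3 : IsPullback iF (pullback.fst fσ g.left) wl j.left := by
    refine IsPullback.of_right ?_ (hw.lift_fst _ _ _) hw.flip
    rw [hw.lift_snd]
    exact sq2.flip
  have sq4 : IsPullback iF (pullback.fst fσ g.left ≫ Y.hom) (wl ≫ p₁) σ.left := sq3.paste_vert sq1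
  have hrσ : Set.range σ.left.base ⊆ Set.range V.ι.base := by rwa [Scheme.Opens.range_ι]
  let σV : Spec (CommRingCat.of k) ⟶ (V : Scheme.{u}) := IsOpenImmersion.lift V.ι σ.left hrσ
  have hσV : σV ≫ V.ι = σ.left := IsOpenImmersion.lift_fac _ _ _
  let iV := (isPullback_morphismRestrict (wl ≫ p₁) V).lift ((pullback.fst fσ g.left ≫ Y.hom) ≫ σV) iF
    (by rw [Category.assoc, hσV]; exact sq4.w.symm)
  have sq5 : IsPullback iV (pullback.fst fσ g.left ≫ Y.hom) ((wl ≫ p₁) ∣_ V) σV := by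
    refine IsPullback.of_right ?_ ((isPullback_morphismRestrict (wl ≫ p₁) V).lift_fst _ _ _)
      (isPullback_morphismRestrict (wl ≫ p₁) V).flip
    rw [(isPullback_morphismRestrict (wl ≫ p₁) V).lift_snd, hσV]
    exact sq4
  haveI hF : Smooth (pullback.fst fσ g.left ≫ Y.hom) := MorphismProperty.of_isPullback (P := @Smooth) sq5 hsm
  refine ⟨hF, or_iff_not_imp_left.mpr fun hne ↦ ?_⟩
  have hd : ∀ p : ↥(pullback fσ g.left),
      n ≤ r + s ∧ FlatMor.localDim ↥(pullback fσ g.left) p = ((r + s - n : ℕ) : WithBot ℕ∞) := by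
    intro p
    obtain ⟨b, hb, hbn⟩ := fibreDim_count (k := k) (πX := X.hom) (πY := Y.hom) (πZ := Z.hom) (πG := G.hom)
      (Over.w g) hp hh hw n r s e hn hr hs he V (iV p)
    refine ⟨by omega, ?_⟩
    rw [← AlgSpLib.fibreDimAt_eq_localDim (pullback.fst fσ g.left ≫ Y.hom), FibDimLib.fibreDimAt_baseChange sq5, hb,
      show r + s - n = b by omega]
  haveI : Nonempty ↥(pullback fσ g.left) := not_isEmpty_iff.mp hne
  refine ⟨(hd (Classical.arbitrary _)).1, ?_⟩
  rw [FibDimLib.topologicalKrullDim_eq_iSup_localDim]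
  simp_rw [fun p ↦ (hd p).2]
  exact iSup_const

end KleimanLib
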